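import Mathlib
import Groth.Agent.Lib.UnrMono.Basic

/-!
A finite separable extension of the residue field at the generic point of an irreducible affine
scheme is the generic fibre of a finite étale algebra over a basic open.
-/

universe u

namespace GrothLib.GenIrr28lead

open Polynomial

variable {A K : Type u} [CommRing A] [Field K] (φ : A →+* K)

/-- Finitely many elements of `K` come from one localisation of `A`. -/
theorem exists_away_range (hfrac : ∀ x : K, ∃ a s : A, φ s ≠ 0 ∧ x * φ s = φ a) (T : Finset K) :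
    ∃ g : A, ∃ hg : IsUnit (φ g), ∀ x ∈ T, x ∈ (IsLocalization.Away.lift (S := Localization.Away g) g hg).range := by
  classical
  choose a s hs hx using hfrac
  refine ⟨∏ x ∈ T, s x, isUnit_iff_ne_zero.mpr (by rw [map_prod]; exact Finset.prod_ne_zero_iff.mpr fun x _ => hs x), fun x hxT => ?_⟩
  refine ⟨algebraMap A _ (a x * ∏ y ∈ T.erase x, s y) *
    IsLocalization.Away.invSelf (S := Localization.Away (∏ x ∈ T, s x)) (∏ x ∈ T, s x), ?_⟩
  have hu : φ (∏ x ∈ T, s x) ≠ 0 := by rw [map_prod]; exact Finset.prod_ne_zero_iff.mpr fun x _ => hs x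
  have hinv := congrArg (IsLocalization.Away.lift (S := Localization.Away (∏ x ∈ T, s x)) (∏ x ∈ T, s x)
    (isUnit_iff_ne_zero.mpr hu)) (IsLocalization.Away.mul_invSelf (S := Localization.Away (∏ x ∈ T, s x)) (∏ x ∈ T, s x))
  rw [map_mul, map_one, IsLocalization.Away.lift_eq] at hinv
  rw [map_mul, IsLocalization.Away.lift_eq, map_mul, ← hx x, mul_assoc x, ← map_mul,
    Finset.mul_prod_erase T s hxT, mul_assoc x, hinv, mul_one]

theorem isNilpotent_of_lift_eq_zero (hker : ∀ a, φ a = 0 → IsNilpotent a) (g : A) (hg : IsUnit (φ g))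
    (x : Localization.Away g) (hx : IsLocalization.Away.lift g hg x = 0) : IsNilpotent x := by
  obtain ⟨n, a, ha⟩ := IsLocalization.Away.surj g x
  have h0 := congrArg (IsLocalization.Away.lift g hg) ha
  rw [map_mul, map_pow, IsLocalization.Away.lift_eq, IsLocalization.Away.lift_eq, hx, zero_mul] at h0
  have := (hker a h0.symm).map (algebraMap A (Localization.Away g))
  rw [← ha] at this
  obtain ⟨m, hm⟩ := this
  refine ⟨m, ?_⟩
  rw [mul_pow] at hm
  exact (((IsLocalization.Away.algebraMap_isUnit g).pow n).pow m).mul_left_eq_zero.mp hm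

theorem exists_finite_etale_model (hker : ∀ a, φ a = 0 → IsNilpotent a)
    (hfrac : ∀ x : K, ∃ a s : A, φ s ≠ 0 ∧ x * φ s = φ a)
    (L : Type u) [Field L] [Algebra K L] [FiniteDimensional K L] [Algebra.IsSeparable K L] :
    ∃ (g : A) (B : Type u) (_ : CommRing B) (_ : Algebra (Localization.Away g) B) (ψ : B →+* L),
      φ g ≠ 0 ∧ Algebra.Etale (Localization.Away g) B ∧ Module.Finite (Localization.Away g) B ∧
      Function.Injective (algebraMap (Localization.Away g) B) ∧
      RingHom.ker ψ = nilradical B ∧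
      ψ.comp ((algebraMap (Localization.Away g) B).comp (algebraMap A (Localization.Away g))) =
        (algebraMap K L).comp φ ∧
      ∀ y : L, ∃ b s : B, ψ s ≠ 0 ∧ y * ψ s = ψ b := by
  classical
  let pb := Field.powerBasisOfFiniteOfSeparable K L
  let P := minpoly K pb.gen
  have hint : IsIntegral K pb.gen := Algebra.IsIntegral.isIntegral _
  have hPm : P.Monic := minpoly.monic hint
  obtain ⟨a, b, hab⟩ : P.Separable := Algebra.IsSeparable.isSeparable K pb.gen
  obtain ⟨g, hg, hT⟩ := exists_away_range φ hfrac (P.coeffs ∪ a.coeffs ∪ b.coeffs)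
  let φg := IsLocalization.Away.lift (S := Localization.Away g) g hg
  have hlift : ∀ Q : K[X], Q.coeffs ⊆ P.coeffs ∪ a.coeffs ∪ b.coeffs → Q ∈ lifts φg := fun Q hQ => by
    rw [lifts_iff_coeff_lifts]
    intro n
    by_cases h : Q.coeff n = 0
    · exact ⟨0, by rw [map_zero, h]⟩
    · exact hT _ (hQ (coeff_mem_coeffs h))
  obtain ⟨P', hP', hdeg, hP'm⟩ := lifts_and_degree_eq_and_monic
    (hlift P (Finset.subset_union_left.trans Finset.subset_union_left)) hPm
  obtain ⟨a', ha'⟩ := (mem_lifts _).1 (hlift a (Finset.subset_union_right.trans Finset.subset_union_left))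
  obtain ⟨b', hb'⟩ := (mem_lifts _).1 (hlift b Finset.subset_union_right)
  have hnil : ∀ Q : (Localization.Away g)[X], Q.map φg = 0 → IsNilpotent Q := fun Q hQ =>
    Polynomial.isNilpotent_iff.mpr fun n => isNilpotent_of_lift_eq_zero φ hker g hg _ (by
      rw [← coeff_map, hQ, coeff_zero])
  have hsep : P'.Separable := by
    have h0 : IsNilpotent (a' * P' + b' * derivative P' - 1) := hnil _ (by
      rw [Polynomial.map_sub, Polynomial.map_add, Polynomial.map_mul, Polynomial.map_mul,
        ← derivative_map, ha', hb', hP', Polynomial.map_one, hab, sub_self])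
    have hu := h0.isUnit_one_add
    rw [add_sub_cancel] at hu
    obtain ⟨w, hw⟩ := hu.exists_left_inv
    exact ⟨w * a', w * b', by linear_combination hw⟩
  haveI := GrothLib.UnrMono.formallyEtale_adjoinRoot hP'm hsep
  have hroot : P'.eval₂ ((algebraMap K L).comp φg) pb.gen = 0 := by
    rw [← eval₂_map, hP', ← aeval_def, minpoly.aeval]
  let ψ : AdjoinRoot P' →+* L := AdjoinRoot.lift ((algebraMap K L).comp φg) pb.gen hroot
  have hψmk : ∀ h, ψ (AdjoinRoot.mk P' h) = aeval pb.gen (h.map φg) := fun h => by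
    rw [AdjoinRoot.lift_mk, aeval_def, eval₂_map]
  have hψalg : ψ.comp ((algebraMap (Localization.Away g) (AdjoinRoot P')).comp
      (algebraMap A (Localization.Away g))) = (algebraMap K L).comp φ := by
    ext x
    simp [ψ, φg, AdjoinRoot.algebraMap_eq]
  have hψv : ∀ x, ψ (algebraMap (Localization.Away g) _ (algebraMap A _ x)) = algebraMap K L (φ x) :=
    fun x => RingHom.congr_fun hψalg x
  have hP'deg : 0 < P'.degree := by rw [hdeg]; exact minpoly.degree_pos hint
  refine ⟨g, AdjoinRoot P', inferInstance, inferInstance, ψ, isUnit_iff_ne_zero.mp hg, ⟨?_, ?_⟩,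
    (AdjoinRoot.powerBasis' hP'm).finite, ?_, ?_, hψalg, ?_⟩
  · infer_instance
  · infer_instance
  · rw [AdjoinRoot.algebraMap_eq, injective_iff_map_eq_zero]
    intro x hx
    by_contra hne
    exact hP'm.not_dvd_of_degree_lt (C_ne_zero.mpr hne) (degree_C_le.trans_lt hP'deg)
      (AdjoinRoot.mk_eq_zero.mp ((AdjoinRoot.mk_C x).trans hx))
  · refine le_antisymm (fun x hx => ?_) (fun x hx => (IsNilpotent.map hx ψ).eq_zero)
    obtain ⟨h, rfl⟩ := AdjoinRoot.mk_surjective x
    rw [← modByMonic_add_div h P', map_add, map_mul, AdjoinRoot.mk_self, zero_mul, add_zero] at hx ⊢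
    rw [RingHom.mem_ker, hψmk] at hx
    haveI := φg.domain_nontrivial
    refine (hnil _ (eq_zero_of_dvd_of_degree_lt (minpoly.dvd K _ hx) ?_)).map (AdjoinRoot.mk P')
    exact degree_map_le.trans_lt ((degree_modByMonic_lt h hP'm).trans_eq hdeg)
  · have hK : ∀ x : K, ∃ c s : AdjoinRoot P', ψ s ≠ 0 ∧ algebraMap K L x * ψ s = ψ c := fun x => by
      obtain ⟨c, s, hs, hx⟩ := hfrac x
      refine ⟨algebraMap (Localization.Away g) _ (algebraMap A _ c),
        algebraMap (Localization.Away g) _ (algebraMap A _ s), ?_, ?_⟩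
      · rw [hψv s]
        simpa using hs
      · rw [hψv s,
          hψv c, ← map_mul, hx]
    intro y
    obtain ⟨Q, rfl⟩ := pb.exists_eq_aeval' y
    induction Q using Polynomial.induction_on' with
    | add p q hp hq =>
      obtain ⟨c, s, hs, h⟩ := hp
      obtain ⟨c', s', hs', h'⟩ := hq
      refine ⟨c * s' + c' * s, s * s', by rw [map_mul]; exact mul_ne_zero hs hs', ?_⟩
      simp only [map_add, map_mul]
      linear_combination ψ s' * h + ψ s * h'
    | monomial n x =>
      obtain ⟨c, s, hs, h⟩ := hK x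
      refine ⟨c * AdjoinRoot.root P' ^ n, s, hs, ?_⟩
      rw [map_mul, map_pow, AdjoinRoot.lift_root, aeval_monomial, ← h]
      ring

end GrothLib.GenIrr28lead
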